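/-
Fast codes of vectors and maps over the field with three elements (helper69).

* `vCode`, `mCode`, `capp`, `ccomp` : codes and their operations;
* `mCode_comp`, `mCode_inj` : soundness;
* `cbList_codes` : the list `cbList` in codes.
-/
import Cfsg.Agent.Lib.CoTwoThree.Model
import Cfsg.Agent.Lib.CoTwoThree.Points.CodeData

set_option autoImplicit false
set_option maxRecDepth 100000

namespace Cfsg.Agent.CoTwoThree

/-- The code of a vector. -/
def vCode (v : V) : ℕ := v.1.1.val + 3 * v.1.2.val + 9 * v.2.1.val + 27 * v.2.2.val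

/-- The vector of a code. -/
def vDec (c : ℕ) : V := (((c : F), (c / 3 : ℕ)), ((c / 9 : ℕ), (c / 27 : ℕ)))

/-- The code of a map. -/
def mCode (m : M4) : ℕ := vCode m.c0 + 81 * vCode m.c1 + 6561 * vCode m.c2 + 531441 * vCode m.c3

/-- Addition of codes. -/
def tAdd (a b : ℕ) : ℕ := Nat.land (Nat.shiftRight addTab (7 * (81 * a + b))) 127

/-- Scalar multiples of codes. -/
def tSel (d u : ℕ) : ℕ := bif Nat.beq d 0 then 0 else bif Nat.beq d 1 then u else tAdd u u

/-- Application of codes. -/
def capp (m v : ℕ) : ℕ :=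
  tAdd (tAdd (tAdd (tSel (v % 3) (m % 81)) (tSel (v / 3 % 3) (m / 81 % 81))) (tSel (v / 9 % 3) (m / 6561 % 81)))
    (tSel (v / 27) (m / 531441))

/-- Composition of codes. -/
def ccomp (m n : ℕ) : ℕ :=
  capp m (n % 81) + 81 * capp m (n / 81 % 81) + 6561 * capp m (n / 6561 % 81) + 531441 * capp m (n / 531441)

theorem vCode_lt (v : V) : vCode v < 81 := by
  have h : ∀ a : F, a.val < 3 := fun a => ZMod.val_lt a
  have := h v.1.1; have := h v.1.2; have := h v.2.1; have := h v.2.2
  rw [vCode]; omega

theorem vDec_vCode : ∀ v, vDec (vCode v) = v := by decide +kernel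

theorem vCode_inj {u v : V} (h : vCode u = vCode v) : u = v := by rw [← vDec_vCode u, h, vDec_vCode]

theorem tAdd_check : ∀ a : V2, ∀ b : V2, ∀ c : V2, ∀ d : V2,
    tAdd (vCode (a, b)) (vCode (c, d)) = vCode ((a, b) + (c, d)) := by decide +kernel

theorem tAdd_vCode (u v : V) : tAdd (vCode u) (vCode v) = vCode (u + v) := tAdd_check u.1 u.2 v.1 v.2

theorem tSel_vCode : ∀ (a : F) (u : V), tSel a.val (vCode u) = vCode (sm a u) := by decide +kernel

theorem mCode_split (m : M4) : mCode m % 81 = vCode m.c0 ∧ mCode m / 81 % 81 = vCode m.c1 ∧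
    mCode m / 6561 % 81 = vCode m.c2 ∧ mCode m / 531441 = vCode m.c3 := by
  have := vCode_lt m.c0; have := vCode_lt m.c1; have := vCode_lt m.c2; have := vCode_lt m.c3
  rw [mCode]; omega

theorem mCode_inj {m n : M4} (h : mCode m = mCode n) : m = n := by
  obtain ⟨a, b, c, d⟩ := mCode_split m
  obtain ⟨a', b', c', d'⟩ := mCode_split n
  rw [h] at a b c d
  cases m; cases n
  simp only [M4.mk.injEq]
  exact ⟨vCode_inj (a.symm.trans a'), vCode_inj (b.symm.trans b'), vCode_inj (c.symm.trans c'),
    vCode_inj (d.symm.trans d')⟩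

theorem capp_vCode (m : M4) (v : V) : capp (mCode m) (vCode v) = vCode (app m v) := by
  obtain ⟨a, b, c, d⟩ := mCode_split m
  have h : ∀ x : F, x.val < 3 := fun x => ZMod.val_lt x
  have := h v.1.1; have := h v.1.2; have := h v.2.1; have := h v.2.2
  rw [capp, a, b, c, d, show vCode v % 3 = v.1.1.val by rw [vCode]; omega,
    show vCode v / 3 % 3 = v.1.2.val by rw [vCode]; omega, show vCode v / 9 % 3 = v.2.1.val by rw [vCode]; omega,
    show vCode v / 27 = v.2.2.val by rw [vCode]; omega, tSel_vCode, tSel_vCode, tSel_vCode, tSel_vCode,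
    tAdd_vCode, tAdd_vCode, tAdd_vCode]
  rfl

theorem mCode_comp (m n : M4) : mCode (comp m n) = ccomp (mCode m) (mCode n) := by
  obtain ⟨a, b, c, d⟩ := mCode_split n
  rw [ccomp, a, b, c, d, capp_vCode, capp_vCode, capp_vCode, capp_vCode]
  rfl

theorem stab_codes : (cosetReps.map fun p => mCode p.1).flatMap (fun p => (stabList.map mCode).map (ccomp p)) =
    cbCodes := by decide +kernel

theorem cbList_codes : cbList.map mCode = cbCodes := by
  rw [← stab_codes, cbList, List.map_flatMap, List.flatMap_map]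
  simp only [List.map_map, Function.comp_def, mCode_comp]

theorem mem_codes {m : M4} (h : m ∈ cbList) : mCode m ∈ cbCodes := cbList_codes ▸ List.mem_map_of_mem h

theorem exists_of_code {c : ℕ} (h : c ∈ cbCodes) : ∃ m ∈ cbList, mCode m = c := by
  rw [← cbList_codes] at h
  exact List.mem_map.1 h

end Cfsg.Agent.CoTwoThree
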