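/-
Finite checks for the conjugates of the central element in a Sylow three-subgroup (helper69).

* `sigma`, `inFix` : the reference element of order three and its fixed plane;
* `conj_sigma`, `commute_sigma`, `fix_sigma`, `with_sigma` : the elements of order three of `2^{1+4}.A5`;
* `move_vec` : no normal three-subgroup in a vector stabiliser.
-/
import Cfsg.Agent.Lib.CoTwoThree.JData
import Cfsg.Agent.Lib.CoTwoThree.Points.Code

set_option autoImplicit false
set_option maxRecDepth 100000

namespace Cfsg.Agent.CoTwoThree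

/-- The reference element of order three. -/
def sigma : M4 := ⟨((1, 0), (0, 0)), ((1, 1), (0, 0)), ((0, 0), (1, 0)), ((0, 0), (1, 1))⟩

/-- Its fixed plane. -/
def inFix (v : V) : Prop := v.1.2 = 0 ∧ v.2.2 = 0

instance : DecidablePred inFix := fun v => by unfold inFix; infer_instance

/-- The first vector of the plane. -/
def d1 : V := ((2, 0), (2, 0))
/-- The second vector of the plane. -/
def d2 : V := ((2, 0), (1, 0))
/-- A vector moved by the first. -/
def e1 : V := ((0, 1), (0, 1))
/-- A vector moved by the second. -/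
def e2 : V := ((0, 1), (0, 2))

/-- The cube is trivial. -/
def cubeI (m : M4) : Prop := comp m (comp m m) = idM

instance : DecidablePred cubeI := fun m => by unfold cubeI; infer_instance

/-- The powers of the reference element. -/
def IsPow (m : M4) : Prop := m = idM ∨ m = sigma ∨ m = comp sigma sigma

instance : DecidablePred IsPow := fun m => by unfold IsPow; infer_instance

theorem sigma_ne : sigma ≠ idM ∧ comp sigma sigma ≠ idM := by decide +kernel

theorem sigma_cube : cubeI sigma := by decide +kernel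

theorem sigma_app_fix : ∀ v, (app sigma v = v ↔ inFix v) ∧ (app (comp sigma sigma) v = v ↔ inFix v) ∧
    inFix (v + -app sigma v) := by
  decide +kernel

theorem fix_isotropic : ∀ u v, inFix u → inFix v → om u v = 0 := by decide +kernel

theorem fix_perp : ∀ v, om v d1 = 0 → om v d2 = 0 → inFix v := by decide +kernel

theorem fix_basis : inFix d1 ∧ inFix d2 ∧ ∀ v, inFix v → ∃ k l : F, v = k.val • d1 + l.val • d2 := by decide +kernel

theorem fix_indep : ∀ k l : F, k.val • d1 + l.val • d2 = 0 → k = 0 ∧ l = 0 := by decide +kernel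

theorem fix_lift : ∀ t, inFix t → ∃ u : V, u + -app sigma u = t := by decide +kernel

theorem perp_pair : ∀ v : V, v ≠ 0 → ∃ u w : V, om u v = 0 ∧ om w v = 0 ∧ om u w ≠ 0 := by decide +kernel

theorem om_onto : ∀ v : V, v ≠ 0 → ∀ k : F, ∃ u : V, om u v = k := by decide +kernel

/-- The nine vectors of the plane. -/
def planeList : List V :=
  [0, d1, -d1, d2, -d2, d1 + d2, -d1 + -d2, d1 + -d2, -d1 + d2]

theorem mem_planeList : ∀ v, inFix v → v ∈ planeList := by decide +kernel

theorem plane_dep_check : ∀ r₁ ∈ planeList, ∀ r₂ ∈ planeList, ∀ w ∈ planeList, w = 0 ∨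
    ∃ a c : Fin 3, (a.val • r₁ + c.val • r₂ = w) ∨ ((a ≠ 0 ∨ c ≠ 0) ∧ a.val • r₁ + c.val • r₂ = 0) := by
  decide +kernel

theorem plane_dep {r₁ r₂ w : V} (h₁ : inFix r₁) (h₂ : inFix r₂) (h : inFix w) (hw : w ≠ 0) :
    ∃ a c : Fin 3, (a.val • r₁ + c.val • r₂ = w) ∨ ((a ≠ 0 ∨ c ≠ 0) ∧ a.val • r₁ + c.val • r₂ = 0) :=
  (plane_dep_check r₁ (mem_planeList _ h₁) r₂ (mem_planeList _ h₂) w (mem_planeList _ h)).resolve_left hw

theorem plane_other : ∀ w : V, inFix w → ∃ t : V, inFix t ∧ ∀ m : Fin 3, t ≠ m.val • w := by decide +kernel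

/-- The code of the identity. -/
def idC : ℕ := mCode idM

/-- The cube of a code is trivial. -/
def cubeC (c : ℕ) : Bool := Nat.beq (ccomp c (ccomp c c)) idC

theorem cubeC_iff (m : M4) : cubeC (mCode m) = true ↔ cubeI m := by
  rw [cubeC, idC, ← mCode_comp, ← mCode_comp, Nat.beq_eq, cubeI]
  exact ⟨mCode_inj, congrArg mCode⟩

theorem cubeC_false (m : M4) : cubeC (mCode m) = false ↔ ¬ cubeI m := by
  rw [← Bool.not_eq_true, cubeC_iff]

/-- The power test on codes. -/
def isPowC (c : ℕ) : Bool :=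
  Nat.beq c idC || Nat.beq c (mCode sigma) || Nat.beq c (mCode (comp sigma sigma))

theorem isPowC_iff (m : M4) : isPowC (mCode m) = true ↔ IsPow m := by
  simp only [isPowC, idC, IsPow, Bool.or_eq_true, Nat.beq_eq]
  constructor
  · rintro ((h | h) | h)
    exacts [Or.inl (mCode_inj h), Or.inr (Or.inl (mCode_inj h)), Or.inr (Or.inr (mCode_inj h))]
  · rintro (h | h | h)
    exacts [Or.inl (Or.inl (congrArg mCode h)), Or.inl (Or.inr (congrArg mCode h)), Or.inr (congrArg mCode h)]

/-- All checks on the codes. -/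
theorem code_checks :
    (cbCodes.all fun c => cubeC c || !cubeC (ccomp c (ccomp c c))) = true ∧
    (cbCodes.all fun c => !cubeC c || Nat.beq c idC || convWit.any fun p => Nat.beq p.1 c) = true ∧
    (convWit.all fun p => Nat.beq (ccomp p.2 p.1) (ccomp (mCode sigma) p.2) && cbCodes.any fun c => Nat.beq c p.2)
      = true ∧
    (cbCodes.all fun c => !cubeC c || !Nat.beq (ccomp c (mCode sigma)) (ccomp (mCode sigma) c) || isPowC c) = true ∧
    (cbCodes.all fun c => !Nat.beq (capp c (vCode d1)) (vCode d1) || !Nat.beq (capp c (vCode d2)) (vCode d2) ||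
      isPowC c) = true ∧
    (cbCodes.all fun c => !cubeC c || !cubeC (ccomp c (mCode sigma)) ||
      !cubeC (ccomp c (ccomp (mCode sigma) (mCode sigma))) || isPowC c) = true := by
  decide +kernel

theorem cube_of_nine {m : M4} (hm : m ∈ cbList) (h : cubeI (comp m (comp m m))) : cubeI m := by
  have := List.all_eq_true.1 code_checks.1 _ (mem_codes hm)
  rw [← mCode_comp, ← mCode_comp, (cubeC_iff _).2 h] at this
  exact (cubeC_iff m).1 (by simpa using this)

theorem conj_sigma {m : M4} (hm : m ∈ cbList) (h3 : cubeI m) (h1 : m ≠ idM) :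
    ∃ n ∈ cbList, comp n m = comp sigma n := by
  have h := List.all_eq_true.1 code_checks.2.1 _ (mem_codes hm)
  rw [(cubeC_iff m).2 h3] at h
  have hne : Nat.beq (mCode m) idC = false :=
    Bool.eq_false_iff.2 fun e => h1 (mCode_inj (Nat.eq_of_beq_eq_true e))
  simp only [hne, Bool.not_true, Bool.false_or, List.any_eq_true] at h
  obtain ⟨p, hp, e⟩ := h
  have hw := List.all_eq_true.1 code_checks.2.2.1 p hp
  simp only [Bool.and_eq_true, List.any_eq_true, Nat.beq_eq] at hw e
  obtain ⟨e2, c, hc, rfl⟩ := hw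
  obtain ⟨n, hn, hnc⟩ := exists_of_code hc
  rw [← hnc, e, ← mCode_comp, ← mCode_comp] at e2
  exact ⟨n, hn, mCode_inj e2⟩

theorem commute_sigma {m : M4} (hm : m ∈ cbList) (h3 : cubeI m) (h : comp m sigma = comp sigma m) : IsPow m := by
  have h' := List.all_eq_true.1 code_checks.2.2.2.1 _ (mem_codes hm)
  rw [(cubeC_iff m).2 h3, ← mCode_comp, ← mCode_comp, h, Nat.beq_refl] at h'
  exact (isPowC_iff m).1 (by simpa using h')

theorem fix_sigma {m : M4} (hm : m ∈ cbList) (h₁ : app m d1 = d1) (h₂ : app m d2 = d2) : IsPow m := by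
  have h' := List.all_eq_true.1 code_checks.2.2.2.2.1 _ (mem_codes hm)
  rw [capp_vCode, capp_vCode, h₁, h₂, Nat.beq_refl, Nat.beq_refl] at h'
  exact (isPowC_iff m).1 (by simpa using h')

theorem with_sigma {m : M4} (hm : m ∈ cbList) (h3 : cubeI m) (h₁ : cubeI (comp m sigma))
    (h₂ : cubeI (comp m (comp sigma sigma))) : IsPow m := by
  have h' := List.all_eq_true.1 code_checks.2.2.2.2.2 _ (mem_codes hm)
  rw [(cubeC_iff m).2 h3, ← mCode_comp, (cubeC_iff _).2 h₁, ← mCode_comp, ← mCode_comp, (cubeC_iff _).2 h₂] at h'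
  exact (isPowC_iff m).1 (by simpa using h')

theorem move_check :
    (∀ v ∈ planeList, v = 0 ∨ (moveWit.any fun p => Nat.beq p.1 (vCode v)) = true) ∧
    (moveWit.all fun p => Nat.beq (capp p.2 p.1) p.1 && (cbCodes.any fun c => Nat.beq c p.2) &&
      Nat.beq (ccomp p.2 (ccomp p.2 (ccomp p.2 p.2))) idC &&
      !cubeC (ccomp (mCode sigma) (ccomp p.2 (ccomp (mCode sigma) (ccomp p.2 (ccomp p.2 p.2)))))) = true := by
  decide +kernel

theorem move_vec {v : V} (hv : inFix v) (h0 : v ≠ 0) : ∃ n ∈ cbList, app n v = v ∧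
    comp n (comp n (comp n n)) = idM ∧ ¬ cubeI (comp sigma (comp n (comp sigma (comp n (comp n n))))) := by
  have h := (move_check.1 v (mem_planeList v hv)).resolve_left h0
  rw [List.any_eq_true] at h
  obtain ⟨p, hp, e⟩ := h
  have hw := List.all_eq_true.1 move_check.2 p hp
  simp only [Bool.and_eq_true, List.any_eq_true, Nat.beq_eq, Bool.not_eq_true'] at hw e
  obtain ⟨⟨⟨e1', c, hc, rfl⟩, e4⟩, e5⟩ := hw
  obtain ⟨n, hn, hnc⟩ := exists_of_code hc
  rw [← hnc] at e1' e4 e5
  simp only [← mCode_comp, cubeC_false] at e5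
  rw [e, capp_vCode] at e1'
  simp only [← mCode_comp] at e4
  exact ⟨n, hn, vCode_inj e1', mCode_inj e4, e5⟩

end Cfsg.Agent.CoTwoThree
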