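/-
Changing the configuration (helper69).

* `Cfg.φ_conj`, `Cfg.commute_iff`, `Cfg.conj_q` : elementary consequences;
* `Cfg.conjG` : the configuration of a conjugate of `z`;
* `Cfg.recoord`, `Cfg.exists_recoord` : new coordinates in which a given element acts as `sigma`.
-/
import Cfsg.Agent.Lib.CoTwoThree.Points.Checks

set_option autoImplicit false

namespace Cfsg.Agent.CoTwoThree

namespace Cfg

variable {G : Type*} [Group G] (C : Cfg G)

theorem zpow_cases {x : G} (h : x ∈ Subgroup.zpowers C.z) : x = 1 ∨ x = C.z ∨ x = C.z ^ 2 := by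
  obtain ⟨k, rfl⟩ := Subgroup.mem_zpowers_iff.1 h
  have e := zpow_mod_orderOf C.z k
  rw [C.z_ord] at e
  rw [← e]
  rcases (show k % 3 = 0 ∨ k % 3 = 1 ∨ k % 3 = 2 by omega) with hk | hk | hk
  · exact Or.inl (by simp [hk])
  · exact Or.inr (Or.inl (by simp [hk]))
  · exact Or.inr (Or.inr (by simp [hk]))

theorem z_pow_mem (n : ℕ) : C.z ^ n ∈ C.Q := pow_mem C.z_mem n

theorem z_pow_val_eq_one {k : F} : C.z ^ k.val = 1 ↔ k = 0 := by
  constructor
  · intro h
    have hd := orderOf_dvd_of_pow_eq_one h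
    rw [C.z_ord] at hd
    have := Nat.eq_zero_of_dvd_of_lt hd (ZMod.val_lt k)
    exact (ZMod.val_eq_zero k).1 this
  · rintro rfl
    simp

theorem z_pow_val_add (a b : F) : C.z ^ (a + b).val = C.z ^ a.val * C.z ^ b.val := by
  rw [← pow_add, ZMod.val_add]
  conv_rhs => rw [← pow_mod_orderOf, C.z_ord]

theorem z_not_swap {y : G} (hy : orderOf y = 3) (h : C.z ∈ Subgroup.zpowers y) : y ∈ Subgroup.zpowers C.z := by
  have : Finite (Subgroup.zpowers y) := Nat.finite_of_card_ne_zero (by rw [Nat.card_zpowers, hy]; norm_num)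
  have e : Subgroup.zpowers C.z = Subgroup.zpowers y :=
    Subgroup.eq_of_le_of_card_ge (Subgroup.zpowers_le.2 h) (by rw [Nat.card_zpowers, Nat.card_zpowers, hy, C.z_ord])
  rw [e]; exact Subgroup.mem_zpowers y

theorem φ_inv' {h : G} (hh : Commute h C.z) : comp (C.φ h) (C.φ h⁻¹) = idM := by
  rw [← C.φ_mul _ _ hh hh.inv_left, mul_inv_cancel, C.φ_one]

theorem φ_cube {b : G} (hb : Commute b C.z) (h3 : b ^ 3 = 1) : cubeI (C.φ b) := by
  rw [cubeI, ← C.φ_mul b b hb hb, ← C.φ_mul b (b * b) hb (hb.mul_left hb),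
    show b * (b * b) = b ^ 3 by rw [pow_succ', pow_two], h3, C.φ_one]

theorem conj_comm_z {h b : G} (hh : Commute h C.z) (hb : Commute b C.z) : Commute (h * b * h⁻¹) C.z :=
  (hh.mul_left hb).mul_left hh.inv_left

theorem φ_conj {h b : G} (hh : Commute h C.z) (hb : Commute b C.z) :
    comp (C.φ (h * b * h⁻¹)) (C.φ h) = comp (C.φ h) (C.φ b) := by
  rw [← C.φ_mul _ _ (C.conj_comm_z hh hb) hh, ← C.φ_mul _ _ hh hb, inv_mul_cancel_right]

theorem mem_Q_of_φ_eq {a b : G} (ha : Commute a C.z) (hb : Commute b C.z) (h : C.φ a = C.φ b) :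
    a⁻¹ * b ∈ C.Q := by
  refine (C.φ_ker _ (ha.inv_left.mul_left hb)).1 ?_
  rw [C.φ_mul _ _ ha.inv_left hb, ← h, C.φ_inv ha]

theorem vec_pow {q : G} (hq : q ∈ C.Q) : ∀ n : ℕ, C.vec (q ^ n) = n • C.vec q
  | 0 => by rw [pow_zero, zero_smul, C.vec_one]
  | n + 1 => by rw [pow_succ, C.vec_mul _ (pow_mem hq n) _ hq, vec_pow hq n, succ_nsmul]

theorem vec_z_pow (n : ℕ) : C.vec (C.z ^ n) = 0 := by rw [C.vec_pow C.z_mem, C.vec_z, nsmul_zero]

theorem exists_z_mul {i j : G} (hi : i ∈ C.Q) (hj : j ∈ C.Q) (h : C.vec i = C.vec j) :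
    ∃ k : F, j = C.z ^ k.val * i := by
  have hk : j * i⁻¹ ∈ Subgroup.zpowers C.z := (C.vec_ker _ (mul_mem hj (inv_mem hi))).1 (by
    rw [C.vec_mul _ hj _ (inv_mem hi), C.vec_inv hi, h, add_neg_cancel])
  rcases C.zpow_cases hk with e | e | e
  · exact ⟨0, by rw [mul_inv_eq_one.1 e]; simp⟩
  · exact ⟨1, by rw [show (1 : F).val = 1 from rfl, pow_one, ← e, inv_mul_cancel_right]⟩
  · exact ⟨2, by rw [show (2 : F).val = 2 from rfl, ← e, inv_mul_cancel_right]⟩

theorem conj_q {i j : G} (hi : i ∈ C.Q) (hj : j ∈ C.Q) :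
    i * j * i⁻¹ = C.z ^ (om (C.vec i) (C.vec j)).val * j := by
  rw [← C.comm i hi j hj]; group

theorem commute_iff {i j : G} (hi : i ∈ C.Q) (hj : j ∈ C.Q) :
    Commute i j ↔ om (C.vec i) (C.vec j) = 0 := by
  rw [← C.z_pow_val_eq_one, ← C.comm i hi j hj]
  exact commutatorElement_eq_one_iff_commute.symm

theorem app_fix {b q : G} (hb : Commute b C.z) (hq : q ∈ C.Q) (h : Commute b q) :
    app (C.φ b) (C.vec q) = C.vec q := by
  rw [← C.vec_conj b hb q hq, h.eq, mul_inv_cancel_right]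

theorem commute_conj {x y : G} (g : G) : Commute (g⁻¹ * x * g) y ↔ Commute x (g * y * g⁻¹) := by
  constructor <;> intro h
  · have := h.map (MulAut.conj g).toMonoidHom
    simpa [mul_assoc] using this
  · have := h.map (MulAut.conj g⁻¹).toMonoidHom
    simpa [mul_assoc] using this

open scoped Pointwise in
/-- The configuration of a conjugate of `z`. -/
def conjG (g : G) : Cfg G where
  z := g * C.z * g⁻¹
  Q := C.Q.comap (MulAut.conj g⁻¹).toMonoidHom
  φ h := C.φ (g⁻¹ * h * g)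
  vec q := C.vec (g⁻¹ * q * g)
  z_ord := by
    rw [← MulAut.conj_apply, ← MulEquiv.coe_toMonoidHom, orderOf_injective _ (MulEquiv.injective _)]
    exact C.z_ord
  z_mem := by
    show (MulAut.conj g⁻¹) (g * C.z * g⁻¹) ∈ C.Q
    simp [C.z_mem, mul_assoc]
  Q_le q hq := (commute_conj g).1 (C.Q_le _ (by simpa using hq))
  cube q hq := by
    have h := C.cube _ hq
    rw [← map_pow] at h
    exact (MulEquiv.map_eq_one_iff _).1 h
  vec_mul i hi j hj := by
    rw [← C.vec_mul _ (by simpa using hi) _ (by simpa using hj)]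
    congr 1; group
  vec_surj v := by
    obtain ⟨q, hq, e⟩ := C.vec_surj v
    exact ⟨g * q * g⁻¹, by simpa [mul_assoc] using hq, by rw [← e]; congr 1; group⟩
  vec_ker q hq := by
    rw [C.vec_ker _ (by simpa using hq)]
    constructor
    · intro h
      obtain ⟨k, hk⟩ := Subgroup.mem_zpowers_iff.1 h
      exact Subgroup.mem_zpowers_iff.2 ⟨k, by rw [conj_zpow, hk]; group⟩
    · intro h
      obtain ⟨k, hk⟩ := Subgroup.mem_zpowers_iff.1 h
      exact Subgroup.mem_zpowers_iff.2 ⟨k, by rw [← hk, conj_zpow]; group⟩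
  comm i hi j hj := by
    rw [conj_pow, ← C.comm _ (by simpa using hi) _ (by simpa using hj)]
    group
  φ_mul a b ha hb := by
    rw [← C.φ_mul _ _ ((commute_conj g).2 ha) ((commute_conj g).2 hb)]
    congr 1; group
  φ_ker h hh := by
    rw [C.φ_ker _ ((commute_conj g).2 hh)]
    simp
  φ_mem h hh := C.φ_mem _ ((commute_conj g).2 hh)
  φ_surj m hm := by
    obtain ⟨h, hh, e⟩ := C.φ_surj m hm
    exact ⟨g * h * g⁻¹, (commute_conj g).1 (by simpa [mul_assoc] using hh), by rw [← e]; congr 1; group⟩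
  conj_mem h hh q hq := by
    have e := C.conj_mem _ ((commute_conj g).2 hh) (g⁻¹ * q * g) (by simpa using hq)
    simpa [mul_assoc] using e
  vec_conj h hh q hq := by
    rw [← C.vec_conj _ ((commute_conj g).2 hh) _ (by simpa using hq)]
    congr 1; group
  S := g • C.S
  S_le s hs := by
    rw [Sylow.coe_subgroup_smul, Subgroup.mem_pointwise_smul_iff_inv_smul_mem] at hs
    refine (commute_conj g).1 (C.S_le _ ?_)
    simpa using hs
  nwc := by
    obtain ⟨a, h1, h2⟩ := C.nwc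
    refine ⟨g * a * g⁻¹, ?_, ?_⟩
    · rw [Sylow.coe_subgroup_smul, Subgroup.mem_pointwise_smul_iff_inv_smul_mem]
      simpa [mul_assoc] using h1
    · intro h
      obtain ⟨k, hk⟩ := Subgroup.mem_zpowers_iff.1 h
      refine h2 (Subgroup.mem_zpowers_iff.2 ⟨k, ?_⟩)
      rw [conj_zpow] at hk
      calc C.z ^ k = g⁻¹ * (g * C.z ^ k * g⁻¹) * g := by group
        _ = _ := by rw [hk]; group

theorem isPt_conjG {g x : G} : (C.conjG g).IsPt x ↔ C.IsPt x := by
  constructor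
  · rintro ⟨a, h | h⟩
    · exact ⟨a * g, Or.inl (by rw [h]; show a * (g * C.z * g⁻¹) * a⁻¹ = _; group)⟩
    · exact ⟨a * g, Or.inr (by rw [h]; show (a * (g * C.z * g⁻¹) * a⁻¹)⁻¹ = _; group)⟩
  · rintro ⟨a, h | h⟩
    · exact ⟨a * g⁻¹, Or.inl (by rw [h]; show _ = a * g⁻¹ * (g * C.z * g⁻¹) * (a * g⁻¹)⁻¹; group)⟩
    · exact ⟨a * g⁻¹, Or.inr (by rw [h]; show _ = (a * g⁻¹ * (g * C.z * g⁻¹) * (a * g⁻¹)⁻¹)⁻¹; group)⟩

theorem isPt_iff {x : G} : C.IsPt x ↔ ∃ g, x = (C.conjG g).z ∨ x⁻¹ = (C.conjG g).z := by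
  refine exists_congr fun g => or_congr Iff.rfl ?_
  exact inv_eq_iff_eq_inv.symm

/-- New coordinates: the old ones after conjugation by `a`. -/
def recoord (a : G) (ha : Commute a C.z) : Cfg G where
  z := C.z
  Q := C.Q
  φ h := C.φ (a * h * a⁻¹)
  vec q := C.vec (a * q * a⁻¹)
  z_ord := C.z_ord
  z_mem := C.z_mem
  Q_le := C.Q_le
  cube := C.cube
  vec_mul i hi j hj := by
    rw [← C.vec_mul _ (C.conj_mem a ha i hi) _ (C.conj_mem a ha j hj)]
    congr 1; group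
  vec_surj v := by
    obtain ⟨q, hq, e⟩ := C.vec_surj v
    exact ⟨a⁻¹ * q * a, by simpa using C.conj_mem a⁻¹ ha.inv_left q hq, by rw [← e]; congr 1; group⟩
  vec_ker q hq := by
    rw [C.vec_ker _ (C.conj_mem a ha q hq)]
    constructor
    · intro h
      obtain ⟨k, hk⟩ := Subgroup.mem_zpowers_iff.1 h
      refine Subgroup.mem_zpowers_iff.2 ⟨k, ?_⟩
      calc C.z ^ k = a⁻¹ * (a * C.z ^ k) := by group
        _ = a⁻¹ * (C.z ^ k * a) := by rw [(ha.zpow_right k).eq]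
        _ = q := by rw [hk]; group
    · intro h
      obtain ⟨k, hk⟩ := Subgroup.mem_zpowers_iff.1 h
      exact Subgroup.mem_zpowers_iff.2 ⟨k, by rw [← hk, (ha.zpow_right k).eq, mul_inv_cancel_right]⟩
  comm i hi j hj := by
    rw [← C.comm _ (C.conj_mem a ha i hi) _ (C.conj_mem a ha j hj)]
    have e : i * j * i⁻¹ * j⁻¹ ∈ Subgroup.zpowers C.z := by
      rw [C.comm i hi j hj]; exact pow_mem (Subgroup.mem_zpowers _) _
    obtain ⟨k, hk⟩ := Subgroup.mem_zpowers_iff.1 e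
    calc i * j * i⁻¹ * j⁻¹ = a * (i * j * i⁻¹ * j⁻¹) * a⁻¹ := by
          rw [← hk, (ha.zpow_right k).eq, mul_inv_cancel_right]
      _ = _ := by group
  φ_mul g h hg hh := by
    rw [← C.φ_mul _ _ (C.conj_comm_z ha hg) (C.conj_comm_z ha hh)]
    congr 1; group
  φ_ker h hh := by
    rw [C.φ_ker _ (C.conj_comm_z ha hh)]
    refine ⟨fun h' => ?_, fun h' => C.conj_mem a ha h h'⟩
    simpa [mul_assoc] using C.conj_mem a⁻¹ ha.inv_left _ h'
  φ_mem h hh := C.φ_mem _ (C.conj_comm_z ha hh)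
  φ_surj m hm := by
    obtain ⟨h, hh, e⟩ := C.φ_surj m hm
    exact ⟨a⁻¹ * h * a, by simpa using C.conj_comm_z ha.inv_left hh, by rw [← e]; congr 1; group⟩
  conj_mem := C.conj_mem
  vec_conj h hh q hq := by
    rw [← C.vec_conj _ (C.conj_comm_z ha hh) _ (C.conj_mem a ha q hq)]
    congr 1; group
  S := C.S
  S_le := C.S_le
  nwc := C.nwc

theorem exists_recoord {b : G} (hb : Commute b C.z) (h3 : b ^ 3 = 1) (hQ : b ∉ C.Q) :
    ∃ (a : G) (ha : Commute a C.z), (C.recoord a ha).φ b = sigma := by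
  obtain ⟨n, hn, e⟩ := conj_sigma (C.φ_mem b hb) (C.φ_cube hb h3) fun h => hQ ((C.φ_ker b hb).1 h)
  obtain ⟨a, ha, rfl⟩ := C.φ_surj n hn
  refine ⟨a, ha, ?_⟩
  rw [← C.φ_conj ha hb] at e
  have := congrArg (fun m => comp m (C.φ a⁻¹)) e
  simp only [comp_assoc, C.φ_inv' ha, comp_idM] at this
  exact this

theorem φ_pow_sigma {b : G} (hb : Commute b C.z) (h : C.φ b = sigma) {a : G} (ha : Commute a C.z)
    (hp : IsPow (C.φ a)) : ∃ j : F, (b ^ j.val)⁻¹ * a ∈ C.Q := by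
  rcases hp with e | e | e
  · exact ⟨0, by simpa using (C.φ_ker a ha).1 e⟩
  · exact ⟨1, by simpa [show (1 : F).val = 1 from rfl] using C.mem_Q_of_φ_eq hb ha (h.trans e.symm)⟩
  · refine ⟨2, C.mem_Q_of_φ_eq (hb.pow_left _) ha ?_⟩
    rw [show (2 : F).val = 2 from rfl, pow_two, C.φ_mul _ _ hb hb, h, e]

end Cfg

end Cfsg.Agent.CoTwoThree
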