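/-
No conjugate of `z` in `Q` outside `⟨z⟩` (helper69).

* `Cfg.noQ` : a point of `Q` lies in `⟨z⟩`.
-/
import Cfsg.Agent.Lib.CoTwoThree.Points.Basic

set_option autoImplicit false

namespace Cfsg.Agent.CoTwoThree

namespace Cfg

variable {G : Type*} [Group G] (C D : Cfg G)

/-- Two elements of the centraliser of an element of `Q` which do not commute. -/
theorem exists_pair {y : G} (hy : y ∈ C.Q) (hyz : y ∉ Subgroup.zpowers C.z) :
    ∃ u ∈ C.Q, ∃ w ∈ C.Q, Commute u y ∧ Commute w y ∧ ¬ Commute u w := by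
  obtain ⟨a, b, ha, hb, hab⟩ := perp_pair (C.vec y) fun h => hyz ((C.vec_ker y hy).1 h)
  obtain ⟨u, hu, rfl⟩ := C.vec_surj a
  obtain ⟨w, hw, rfl⟩ := C.vec_surj b
  exact ⟨u, hu, w, hw, (C.commute_iff hu hy).2 ha, (C.commute_iff hw hy).2 hb,
    fun h => hab ((C.commute_iff hu hw).1 h)⟩

variable {C D}

theorem pair_z_mem (hy : D.z ∈ C.Q) (hyz : D.z ∉ Subgroup.zpowers C.z) : C.z ∈ D.Q := by
  by_contra hz
  have hzy : Commute C.z D.z := (C.Q_le _ hy).symm
  obtain ⟨a, ha, hσ⟩ := D.exists_recoord hzy C.z_pow hz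
  set D' := D.recoord a ha with hD'
  have key : ∀ u ∈ C.Q, Commute u D.z →
      ∃ j : F, ∃ q ∈ D'.Q, u = C.z ^ j.val * q ∧ inFix (D'.vec q) := by
    intro u hu huy
    have hp : IsPow (D'.φ u) := commute_sigma (D'.φ_mem u huy) (D'.φ_cube huy (C.cube u hu)) (by
      rw [← hσ, ← D'.φ_mul _ _ huy hzy, ← D'.φ_mul _ _ hzy huy, (C.Q_le u hu).eq])
    obtain ⟨j, hj⟩ := D'.φ_pow_sigma hzy hσ huy hp
    refine ⟨j, _, hj, (mul_inv_cancel_left _ _).symm, (sigma_app_fix _).1.1 ?_⟩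
    rw [← hσ]
    exact D'.app_fix hzy hj ((((Commute.refl C.z).pow_right _).inv_right).mul_right (C.Q_le u hu).symm)
  obtain ⟨u, hu, w, hw, huy, hwy, hne⟩ := C.exists_pair hy hyz
  obtain ⟨j, q, hq, eu, hqf⟩ := key u hu huy
  obtain ⟨k, r, hr, ew, hrf⟩ := key w hw hwy
  have hqz : Commute q C.z := by
    rw [show q = (C.z ^ j.val)⁻¹ * u by rw [eu, inv_mul_cancel_left]]
    exact ((Commute.refl C.z).pow_left _).inv_left.mul_left (C.Q_le u hu)
  have hrz : Commute r C.z := by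
    rw [show r = (C.z ^ k.val)⁻¹ * w by rw [ew, inv_mul_cancel_left]]
    exact ((Commute.refl C.z).pow_left _).inv_left.mul_left (C.Q_le w hw)
  have hqr : Commute q r := (D'.commute_iff hq hr).2 (fix_isotropic _ _ hqf hrf)
  refine hne ?_
  rw [eu, ew]
  exact ((((Commute.refl C.z).pow_pow _ _).mul_right (hrz.symm.pow_left _)).mul_left
    ((hqz.pow_right _).mul_right hqr))

theorem pair_le (hy : D.z ∈ C.Q) (hyz : D.z ∉ Subgroup.zpowers C.z) {b : G} (hb : b ∈ D.Q)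
    (hbz : Commute b C.z) : b ∈ C.Q := by
  by_contra hQ
  obtain ⟨a, ha, hσ⟩ := C.exists_recoord hbz (D.cube b hb) hQ
  set C' := C.recoord a ha with hC'
  have hv0 : C'.vec D.z ≠ 0 := fun h => hyz ((C'.vec_ker _ hy).1 h)
  have hvf : inFix (C'.vec D.z) := (sigma_app_fix _).1.1 (by rw [← hσ]; exact C'.app_fix hbz hy (D.Q_le b hb))
  obtain ⟨n, hn, hnv, hn4, hn3⟩ := move_vec hvf hv0
  obtain ⟨h, hh, hφ⟩ := C'.φ_surj n hn
  obtain ⟨k, hk⟩ := C'.exists_z_mul hy (C'.conj_mem h hh _ hy) (by rw [C'.vec_conj h hh _ hy, hφ, hnv])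
  obtain ⟨t, ht⟩ := om_onto (C'.vec D.z) hv0 (-k)
  obtain ⟨q, hq, rfl⟩ := C'.vec_surj t
  have hqz : Commute q C.z := C.Q_le q hq
  have hh' : Commute (q * h) C.z := hqz.mul_left hh
  have hhy : q * h * D.z * (q * h)⁻¹ = D.z := by
    calc q * h * D.z * (q * h)⁻¹ = q * (h * D.z * h⁻¹) * q⁻¹ := by group
      _ = q * C.z ^ k.val * (D.z * q⁻¹) := by rw [hk]; show _ = _; simp only [hC', recoord]; group
      _ = C.z ^ k.val * (q * D.z * q⁻¹) := by rw [(hqz.pow_right _).eq]; group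
      _ = C.z ^ k.val * (C.z ^ (-k).val * D.z) := by rw [C'.conj_q hq hy, ht]; rfl
      _ = D.z := by rw [← mul_assoc, ← C.z_pow_val_add, add_neg_cancel]; simp
  have hn' : C'.φ (q * h) = n := by rw [C'.φ_mul _ _ hqz hh, C'.φ_of_mem hq, idM_comp, hφ]
  have hb' : q * h * b * (q * h)⁻¹ ∈ D.Q := D.conj_mem _ (mul_inv_eq_iff_eq_mul.1 hhy) b hb
  have hb'z : Commute (q * h * b * (q * h)⁻¹) C.z := C.conj_comm_z hh' hbz
  have h3 := C'.φ_cube (hbz.mul_left hb'z) (D.cube _ (mul_mem hb hb'))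
  have e : C'.φ (q * h * b * (q * h)⁻¹) = comp n (comp sigma (comp n (comp n n))) := by
    have e := C'.φ_conj hh' hbz
    rw [hn', hσ] at e
    have := congrArg (fun m => comp m (comp n (comp n n))) e
    simp only [comp_assoc] at this
    rwa [show comp n (comp n (comp n n)) = idM from hn4, comp_idM] at this
  rw [C'.φ_mul _ _ hbz hb'z, hσ, e] at h3
  exact hn3 h3

theorem pair_false (hy : D.z ∈ C.Q) (hyz : D.z ∉ Subgroup.zpowers C.z) : False := by
  have hz := pair_z_mem hy hyz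
  have hzy : C.z ∉ Subgroup.zpowers D.z := fun h => hyz (C.z_not_swap D.z_ord h)
  obtain ⟨u, hu, w, hw, huy, hwy, hne⟩ := C.exists_pair hy hyz
  have hu' := pair_le hz hzy hu huy
  have hw' := pair_le hz hzy hw hwy
  have e := C.comm u hu w hw
  have e' := D.comm u hu' w hw'
  rw [e] at e'
  have h0 : om (C.vec u) (C.vec w) ≠ 0 := fun h => hne ((C.commute_iff hu hw).2 h)
  refine hzy ?_
  have hm : C.z ^ (om (C.vec u) (C.vec w)).val ∈ Subgroup.zpowers D.z := e' ▸ pow_mem (Subgroup.mem_zpowers _) _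
  generalize om (C.vec u) (C.vec w) = k at h0 hm
  rcases (show ∀ m : F, m ≠ 0 → m = 1 ∨ m = 2 by decide) k h0 with rfl | rfl
  · simpa [show (1 : F).val = 1 from rfl] using hm
  · have := mul_mem hm hm
    rwa [show (2 : F).val = 2 from rfl, ← pow_add, show 2 + 2 = 3 + 1 from rfl, pow_succ, C.z_pow, one_mul] at this

variable (C)

theorem noQ {x : G} (hx : C.IsPt x) (hQ : x ∈ C.Q) : x ∈ Subgroup.zpowers C.z := by
  by_contra hne
  obtain ⟨g, h | h⟩ := C.isPt_iff.1 hx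
  · exact pair_false (C := C) (D := C.conjG g) (h ▸ hQ) (h ▸ hne)
  · exact pair_false (C := C) (D := C.conjG g) (h ▸ inv_mem hQ) (h ▸ fun e => hne (by simpa using inv_mem e))

end Cfg

end Cfsg.Agent.CoTwoThree
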