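/-
A conjugate of `z` in the centraliser centralises the preimage of its fixed plane (helper69).

* `Cfg.coset_points` : otherwise a whole coset consists of points;
* `Cfg.centr` : the statement.
-/
import Cfsg.Agent.Lib.CoTwoThree.Points.NoQ

set_option autoImplicit false

namespace Cfsg.Agent.CoTwoThree

theorem plane_shift_check : ∀ w ∈ planeList, ∀ t ∈ planeList, ∀ m : Fin 3,
    t + m.val • w = 0 → t = (m + m : Fin 3).val • w := by decide +kernel

theorem f_inv_check : ∀ k l : F, k ≠ 0 → l + (-l * k) * k = 0 := by decide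

theorem isPow_commute {m : M4} (h : IsPow m) : comp m sigma = comp sigma m := by
  rcases h with rfl | rfl | rfl
  · rw [idM_comp, comp_idM]
  · rfl
  · rw [comp_assoc]

namespace Cfg

variable {G : Type*} [Group G] (C : Cfg G)

theorem z_pow_val_mul (a b : F) : (C.z ^ a.val) ^ b.val = C.z ^ (a * b).val := by
  rw [← pow_mul, ZMod.val_mul]
  conv_lhs => rw [← pow_mod_orderOf, C.z_ord]

theorem fix_of_conj {y : G} (hyz : Commute y C.z) (hσ : C.φ y = sigma) {t : G} (ht : t ∈ C.Q)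
    (htf : inFix (C.vec t)) : ∃ k : F, y * t * y⁻¹ = C.z ^ k.val * t :=
  C.exists_z_mul ht (C.conj_mem y hyz t ht) (by rw [C.vec_conj y hyz t ht, hσ, (sigma_app_fix _).1.2 htf])

/-- An element of the centraliser of order three commuting with an element acting as `sigma`. -/
theorem split_commute {y : G} (hyz : Commute y C.z) (hσ : C.φ y = sigma) {b : G} (hbz : Commute b C.z)
    (h3 : b ^ 3 = 1) (hby : Commute b y) :
    ∃ j : F, ∃ q ∈ C.Q, b = y ^ j.val * q ∧ Commute y q ∧ inFix (C.vec q) := by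
  have hp : IsPow (C.φ b) := commute_sigma (C.φ_mem b hbz) (C.φ_cube hbz h3) (by
    rw [← hσ, ← C.φ_mul _ _ hbz hyz, ← C.φ_mul _ _ hyz hbz, hby.eq])
  obtain ⟨j, hj⟩ := C.φ_pow_sigma hyz hσ hbz hp
  have hc : Commute y ((y ^ j.val)⁻¹ * b) :=
    (((Commute.refl y).pow_right _).inv_right).mul_right hby.symm
  exact ⟨j, _, hj, (mul_inv_cancel_left _ _).symm, hc,
    (sigma_app_fix _).1.1 (hσ ▸ C.app_fix hyz hj hc)⟩

theorem coset_points {y : G} (hyz : Commute y C.z) (hσ : C.φ y = sigma) (hy : C.IsPt y) {w : G} (hw : w ∈ C.Q)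
    (hwf : inFix (C.vec w)) (hwy : ¬ Commute y w) {t : G} (ht : t ∈ C.Q) (htf : inFix (C.vec t)) :
    C.IsPt (t * y) := by
  obtain ⟨k, hk⟩ := C.fix_of_conj hyz hσ hw hwf
  have hk0 : k ≠ 0 := fun h => hwy (mul_inv_eq_iff_eq_mul.1 (by rw [hk, h]; simp))
  have hwz : Commute w C.z := C.Q_le w hw
  have step : ∀ a : F, C.IsPt (C.z ^ a.val * y) → C.IsPt (C.z ^ (a + k).val * y) := by
    intro a ha
    have := ha.conj w⁻¹
    rw [inv_inv] at this
    convert this using 1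
    calc C.z ^ (a + k).val * y = C.z ^ a.val * (w⁻¹ * (C.z ^ k.val * w)) * y := by
          rw [C.z_pow_val_add, ← (hwz.pow_right k.val).eq, inv_mul_cancel_left]
      _ = C.z ^ a.val * (w⁻¹ * (y * w * y⁻¹)) * y := by rw [hk]
      _ = C.z ^ a.val * w⁻¹ * (y * w) := by group
      _ = w⁻¹ * C.z ^ a.val * (y * w) := by rw [(hwz.inv_left.pow_right a.val).eq]
      _ = _ := by group
  have hall : ∀ a : F, C.IsPt (C.z ^ a.val * y) := by
    have h0 : C.IsPt (C.z ^ (0 : F).val * y) := by simpa using hy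
    intro a
    rcases (show ∀ k a : F, k ≠ 0 → a = 0 ∨ a = 0 + k ∨ a = 0 + k + k by decide) k a hk0 with rfl | rfl | rfl
    exacts [h0, step 0 h0, step _ (step 0 h0)]
  obtain ⟨v, hv⟩ := fix_lift _ htf
  obtain ⟨q, hq, rfl⟩ := C.vec_surj v
  have hqz : Commute q C.z := C.Q_le q hq
  have hu : q * (y * q⁻¹ * y⁻¹) ∈ C.Q := mul_mem hq (C.conj_mem y hyz _ (inv_mem hq))
  have hv' : C.vec (q * (y * q⁻¹ * y⁻¹)) = C.vec t := by
    rw [C.vec_mul _ hq _ (C.conj_mem y hyz _ (inv_mem hq)), C.vec_conj y hyz _ (inv_mem hq), C.vec_inv hq, hσ,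
      ← hv, (show ∀ v, app sigma (-v) = -app sigma v by decide +kernel) (C.vec q)]
  obtain ⟨a, ha⟩ := C.exists_z_mul hu ht hv'
  convert (hall a).conj q using 1
  rw [ha]
  calc C.z ^ a.val * (q * (y * q⁻¹ * y⁻¹)) * y = C.z ^ a.val * q * (y * q⁻¹) := by group
    _ = q * C.z ^ a.val * (y * q⁻¹) := by rw [(hqz.pow_right a.val).eq]
    _ = q * (C.z ^ a.val * y) * q⁻¹ := by group

theorem centr_pair (D : Cfg G) (hp : ∀ p, D.IsPt p ↔ C.IsPt p) (hpt : C.IsPt D.z) (hyz : Commute D.z C.z)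
    (hσ : C.φ D.z = sigma) {w : G} (hw : w ∈ C.Q) (hwf : inFix (C.vec w)) : Commute D.z w := by
  by_contra hne
  have hyQ : D.z ∉ C.Q := fun h => sigma_ne.1 (hσ.symm.trans (C.φ_of_mem h))
  have hzD : C.z ∉ D.Q := fun h => hyQ ((Subgroup.zpowers_le.2 C.z_mem)
    (C.z_not_swap D.z_ord (D.noQ ((hp _).2 C.isPt_z) h)))
  obtain ⟨a, ha, hσ'⟩ := D.exists_recoord hyz.symm C.z_pow hzD
  set D' := D.recoord a ha with hD'
  have hw0 : C.vec w ≠ 0 := fun h => hne (by
    rcases C.zpow_cases ((C.vec_ker w hw).1 h) with e | e | e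
    exacts [e ▸ Commute.one_right _, e ▸ hyz, e ▸ hyz.pow_right 2])
  by_cases hD : ∀ t ∈ D'.Q, inFix (D'.vec t) → Commute C.z t
  · obtain ⟨b1, hb1, e1'⟩ := D'.vec_surj d1
    obtain ⟨b2, hb2, e2'⟩ := D'.vec_surj d2
    have hz1 := hD b1 hb1 (e1' ▸ fix_basis.1)
    have hz2 := hD b2 hb2 (e2' ▸ fix_basis.2.1)
    obtain ⟨j1, q1, hq1, hs1, hc1, hf1⟩ :=
      C.split_commute hyz hσ hz1.symm (D.cube b1 hb1) (D.Q_le b1 hb1)
    obtain ⟨j2, q2, hq2, hs2, hc2, hf2⟩ :=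
      C.split_commute hyz hσ hz2.symm (D.cube b2 hb2) (D.Q_le b2 hb2)
    obtain ⟨m, n, hmn⟩ := plane_dep hf1 hf2 hwf hw0
    have hq := mul_mem (pow_mem hq1 m.val) (pow_mem hq2 n.val)
    have hqv : C.vec (q1 ^ m.val * q2 ^ n.val) = m.val • C.vec q1 + n.val • C.vec q2 := by
      rw [C.vec_mul _ (pow_mem hq1 _) _ (pow_mem hq2 _), C.vec_pow hq1, C.vec_pow hq2]
    rcases hmn with e | ⟨h0, e⟩
    · obtain ⟨k, hk⟩ := C.exists_z_mul hq hw (hqv.trans e)
      exact hne (hk ▸ (hyz.pow_right _).mul_right ((hc1.pow_right _).mul_right (hc2.pow_right _)))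
    · have eb : b1 ^ m.val * b2 ^ n.val = D.z ^ (j1.val * m.val + j2.val * n.val) * (q1 ^ m.val * q2 ^ n.val) := by
        rw [hs1, hs2, (hc1.pow_left _).mul_pow, (hc2.pow_left _).mul_pow, ← pow_mul, ← pow_mul, pow_add]
        have hswap : Commute (q1 ^ m.val) (D.z ^ (j2.val * n.val)) := (hc1.pow_pow _ _).symm
        rw [mul_assoc, ← mul_assoc (q1 ^ m.val), hswap.eq]
        group
      have hb : b1 ^ m.val * b2 ^ n.val ∈ D.Q := mul_mem (pow_mem hb1 _) (pow_mem hb2 _)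
      have hqD : q1 ^ m.val * q2 ^ n.val ∈ D.Q :=
        (D.Q.mul_mem_cancel_left (D.z_pow_mem _)).1 (eb ▸ hb)
      have hq1' : q1 ^ m.val * q2 ^ n.val = 1 := by
        rcases C.zpow_cases ((C.vec_ker _ hq).1 (hqv.trans e)) with h | h | h
        · exact h
        · exact absurd (h ▸ hqD) hzD
        · have := mul_mem (h ▸ hqD : C.z ^ 2 ∈ D.Q) (h ▸ hqD : C.z ^ 2 ∈ D.Q)
          rw [← pow_add, show 2 + 2 = 3 + 1 from rfl, pow_succ, C.z_pow, one_mul] at this
          exact absurd this hzD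
      have hv : D'.vec (b1 ^ m.val * b2 ^ n.val) = 0 := by
        rw [eb, hq1', mul_one]
        exact D'.vec_z_pow _
      rw [D'.vec_mul _ (pow_mem hb1 _) _ (pow_mem hb2 _), D'.vec_pow hb1, D'.vec_pow hb2, e1', e2'] at hv
      obtain ⟨rfl, rfl⟩ : m = 0 ∧ n = 0 := fix_indep m n hv
      simp at h0
  · push Not at hD
    obtain ⟨w', hw', hwf', hne'⟩ := hD
    obtain ⟨t, htf, htw⟩ := plane_other (C.vec w) hwf
    obtain ⟨t, ht, rfl⟩ := C.vec_surj t
    obtain ⟨l, hl⟩ := C.fix_of_conj hyz hσ ht htf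
    obtain ⟨k, hk⟩ := C.fix_of_conj hyz hσ hw hwf
    have hk0 : k ≠ 0 := fun h => hne (mul_inv_eq_iff_eq_mul.1 (by rw [hk, h]; simp))
    set m : F := -l * k
    have hq : t * w ^ m.val ∈ C.Q := mul_mem ht (pow_mem hw _)
    have hqy : Commute (t * w ^ m.val) D.z := by
      refine (mul_inv_eq_iff_eq_mul.1 ?_ : D.z * (t * w ^ m.val) = t * w ^ m.val * D.z).symm
      calc D.z * (t * w ^ m.val) * D.z⁻¹ = (D.z * t * D.z⁻¹) * (D.z * w * D.z⁻¹) ^ m.val := by
            rw [conj_pow]; group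
        _ = C.z ^ l.val * t * (C.z ^ (k * m).val * w ^ m.val) := by
            rw [hl, hk, ((C.Q_le w hw).symm.pow_left _).mul_pow, C.z_pow_val_mul]
        _ = C.z ^ l.val * (C.z ^ (k * m).val * t) * w ^ m.val := by
            rw [← ((C.Q_le t ht).pow_right (k * m).val).eq]; group
        _ = C.z ^ (l + k * m).val * (t * w ^ m.val) := by rw [C.z_pow_val_add]; group
        _ = _ := by rw [show l + k * m = 0 by rw [mul_comm k]; exact f_inv_check k l hk0]; simp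
    have hv0 : C.vec (t * w ^ m.val) ≠ 0 := by
      rw [C.vec_mul _ ht _ (pow_mem hw _), C.vec_pow hw]
      exact fun h => htw _ (plane_shift_check _ (mem_planeList _ hwf) _ (mem_planeList _ htf) m h)
    obtain ⟨j, u, hu, eu, huz, huf⟩ :=
      D'.split_commute hyz.symm hσ' hqy (C.cube _ hq) (C.Q_le _ hq)
    have hpz : D'.IsPt C.z := (hp C.z).2 C.isPt_z
    have hpu : D'.IsPt (u * C.z) := D'.coset_points hyz.symm hσ' hpz hw' hwf' hne' hu huf
    have hpu' : C.IsPt (u * C.z) := (hp _).1 hpu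
    have eu' : u = (C.z ^ j.val)⁻¹ * (t * w ^ m.val) := by rw [eu, inv_mul_cancel_left]
    have huQ : u * C.z ∈ C.Q := mul_mem (eu' ▸ mul_mem (inv_mem (C.z_pow_mem _)) hq) C.z_mem
    have := (C.vec_ker _ huQ).2 (C.noQ hpu' huQ)
    rw [C.vec_mul _ (eu' ▸ mul_mem (inv_mem (C.z_pow_mem _)) hq) _ C.z_mem, eu',
      C.vec_mul _ (inv_mem (C.z_pow_mem _)) _ hq, C.vec_inv (C.z_pow_mem _), C.vec_z_pow, C.vec_z] at this
    exact hv0 (by simpa using this)

theorem centr {x w : G} (hx : C.IsPt x) (hxz : Commute x C.z) (hxQ : x ∉ C.Q) (hw : w ∈ C.Q)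
    (hf : app (C.φ x) (C.vec w) = C.vec w) : Commute x w := by
  obtain ⟨g, h⟩ := C.isPt_iff.1 hx
  have main : ∀ y, y = (C.conjG g).z → Commute y C.z → y ∉ C.Q → app (C.φ y) (C.vec w) = C.vec w →
      Commute y w := by
    rintro y rfl hyz hyQ hfy
    obtain ⟨a, ha, hσ⟩ := C.exists_recoord hyz (C.conjG g).z_pow hyQ
    have hf' : app ((C.recoord a ha).φ (C.conjG g).z) ((C.recoord a ha).vec w) = (C.recoord a ha).vec w := by
      rw [← (C.recoord a ha).vec_conj _ hyz w hw]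
      obtain ⟨k, hk⟩ := C.exists_z_mul hw (C.conj_mem _ hyz w hw) (by rw [C.vec_conj _ hyz w hw, hfy])
      rw [hk, (C.recoord a ha).vec_mul _ (C.z_pow_mem _) _ hw]
      exact (congrArg (· + _) ((C.recoord a ha).vec_z_pow _)).trans (zero_add _)
    rw [hσ] at hf'
    exact (C.recoord a ha).centr_pair (C.conjG g) (fun _ => C.isPt_conjG) (C.isPt_conjG.1 (C.conjG g).isPt_z)
      hyz hσ hw ((sigma_app_fix _).1.1 hf')
  rcases h with h | h
  · exact main x h hxz hxQ hf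
  · refine Commute.inv_left_iff.1 (main x⁻¹ h hxz.inv_left (fun e => hxQ (by simpa using inv_mem e)) ?_)
    conv_lhs => rw [← hf, ← app_comp, C.φ_inv hxz, app_idM]

end Cfg

end Cfsg.Agent.CoTwoThree
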